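import Groth.Prelude.Def_ChGrp
import Groth.Agent.QuotLib.TrivHom
import Groth.Agent.AlgStLib.QuotStToSp
import Groth.Agent.IsoNatLib.Span
import Groth.Agent.StkLib.Basic

/-!
# Quotient stacks of a balanced product

The points of `Z` chart both `[Z/H]` and `[G ×^H Z / G]` with the same isomorphisms, and both are stacks.
-/

set_option autoImplicit false
set_option backward.isDefEq.respectTransparency false
set_option backward.isDefEq.respectTransparency.types false

universe u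

open CategoryTheory CategoryTheory.Functor CategoryTheory.Limits MonoidalCategory CartesianMonoidalCategory MonObj
  GrpObj AlgebraicGeometry

namespace Groth.Agent.QuotLib.BalProd

open Groth.Agent.FibBase Groth.Agent.GrpSchLib Groth.Agent.IsoNatLib AlgSt

variable {S : Scheme.{u}}

local notation "K₀" => Scheme.fppfPrecoverage

section Chart

variable {G X : Over S} [GrpObj G] {aX : AlgGrp.Action G X}

/-- The map of bases of a morphism of trivial torsors. -/
def mb {T T' : Over S} {x : T ⟶ X} {x' : T' ⟶ X} (m : triv K₀ G aX x ⟶ triv K₀ G aX x') : T ⟶ T' := m.base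

/-- The map of total spaces of a morphism of trivial torsors. -/
def mt {T T' : Over S} {x : T ⟶ X} {x' : T' ⟶ X} (m : triv K₀ G aX x ⟶ triv K₀ G aX x') : G ⊗ T ⟶ G ⊗ T' := m.top

/-- The unit coordinate of a morphism of trivial torsors. -/
noncomputable def coord {T T' : Over S} {x : T ⟶ X} {x' : T' ⟶ X}
    (m : triv K₀ G aX x ⟶ triv K₀ G aX x') : T ⟶ G :=
  sec G T ≫ mt m ≫ fst G T'

theorem mt_eq {T T' : Over S} {x : T ⟶ X} {x' : T' ⟶ X} (m : triv K₀ G aX x ⟶ triv K₀ G aX x') :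
    lift (coord m) (mb m ≫ x') ≫ aX.act = x ∧
      mt m = lift (fst G T * (snd G T ≫ coord m)) (snd G T ≫ mb m) := by
  obtain ⟨g, hx, hg⟩ : ∃ g : T ⟶ G, lift g (mb m ≫ x') ≫ aX.act = x ∧
      mt m = lift (fst G T * (snd G T ≫ g)) (snd G T ≫ mb m) := (hom_triv_iff (mb m) x x').1 m rfl
  have : coord m = g := by
    rw [coord, hg, lift_fst, sec, comp_mul, lift_fst, lift_snd_assoc, Category.id_comp, _root_.one_mul]
  rw [this]
  exact ⟨hx, hg⟩

theorem sec_top {T T' : Over S} {x : T ⟶ X} {x' : T' ⟶ X} (m : triv K₀ G aX x ⟶ triv K₀ G aX x') :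
    sec G T ≫ mt m = lift (coord m) (mb m) := by
  apply CartesianMonoidalCategory.hom_ext
  · rw [lift_fst, Category.assoc]; rfl
  · rw [lift_snd, (mt_eq m).2, Category.assoc, lift_snd, sec, lift_snd_assoc, Category.id_comp]

theorem coord_spec {T T' : Over S} {x : T ⟶ X} {x' : T' ⟶ X} (m : triv K₀ G aX x ⟶ triv K₀ G aX x') :
    lift (coord m) (mb m ≫ x') ≫ aX.act = x := (mt_eq m).1

theorem coord_comp {T T' T'' : Over S} {x : T ⟶ X} {x' : T' ⟶ X} {x'' : T'' ⟶ X}
    (m : triv K₀ G aX x ⟶ triv K₀ G aX x') (m' : triv K₀ G aX x' ⟶ triv K₀ G aX x'') :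
    coord (m ≫ m') = coord m * (mb m ≫ coord m') := by
  show sec G T ≫ (mt m ≫ mt m') ≫ fst G T'' = _
  rw [Category.assoc, ← Category.assoc (sec G T), sec_top m, (mt_eq m').2, lift_fst, comp_mul, lift_fst,
    lift_snd_assoc]

theorem coord_id {T : Over S} (x : T ⟶ X) : coord (𝟙 (triv K₀ G aX x)) = 1 := by
  show sec G T ≫ 𝟙 _ ≫ fst G T = 1
  rw [Category.id_comp, sec, lift_fst]

theorem hom_ext_coord {T T' : Over S} {x : T ⟶ X} {x' : T' ⟶ X}
    {m m' : triv K₀ G aX x ⟶ triv K₀ G aX x'} (h₁ : mb m = mb m') (h₂ : coord m = coord m') : m = m' := by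
  have : sec G T ≫ mt m = sec G T ≫ mt m' := by rw [sec_top m, sec_top m', h₁, h₂]
  exact hom_ext_sec this

/-- Every object is locally the torsor of a point. -/
theorem covers_triv (A : AlgSt.QuotObj K₀ G aX) : ∃ R ∈ QuotSh.J K₀ S A.base,
    ∀ ⦃V : Over S⦄ (f : V ⟶ A.base), R f → ∃ (x : V ⟶ X) (φ : triv K₀ G aX x ⟶ A), φ.base = f := by
  obtain ⟨R, hR, hR'⟩ := exists_cover_triv A
  let P : Presieve A.base := fun V f => ∃ (T' : Scheme.{u}) (f' : T' ⟶ A.base.left) (e : V = Over.mk (f' ≫ A.base.hom)),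
    R f' ∧ f = eqToHom e ≫ Over.homMk f' rfl
  refine ⟨Sieve.generate P, ?_, fun V f hf => ?_⟩
  · rw [GrothendieckTopology.mem_over_iff]
    refine GrothendieckTopology.superset_covering _ ?_ (Precoverage.generate_mem_toGrothendieck hR)
    rintro Z _ ⟨Y, a, f', hf', rfl⟩
    rw [Sieve.overEquiv_iff]
    exact ⟨Over.mk (f' ≫ A.base.hom), Over.homMk a (by simp), Over.homMk f' rfl,
      ⟨Y, f', rfl, hf', by simp⟩, by ext; simp⟩
  · obtain ⟨W, k, _, ⟨T', f', rfl, hf', rfl⟩, rfl⟩ := hf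
    obtain ⟨x, h, hh⟩ := hR' f' hf'
    refine ⟨k ≫ x, ((quotMap K₀ G aX).map ((ofOverCat X).map (Over.homMk k rfl : Over.mk (k ≫ x) ⟶ Over.mk x))) ≫ h, ?_⟩
    show k ≫ h.base = _
    rw [hh, eqToHom_refl, Category.id_comp]

end Chart

variable {G H Z Y : Over S} [GrpObj G] [GrpObj H] {i : H ⟶ G} [IsMonHom i] {aZ : AlgGrp.Action H Z}
  {aY : AlgGrp.Action G Y} {j : G ⊗ Z ⟶ Y}

theorem j_equivariant (hY : ChGrp.IsBalProd K₀ i aZ aY j) {T : Over S} (g g' : T ⟶ G) (z : T ⟶ Z) :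
    lift g (lift g' z ≫ j) ≫ aY.act = lift (g * g') z ≫ j := by
  have h := congrArg (lift g (lift g' z) ≫ ·) hY.1
  simp only [lift_whiskerLeft_assoc] at h
  rw [← h, AlgGrp.Action.lift_prod_act_assoc, AlgGrp.Action.lift_trivial_act]
  congr 2

theorem j_invariant (hY : ChGrp.IsBalProd K₀ i aZ aY j) {T : Over S} (h : T ⟶ H) (g : T ⟶ G) (z : T ⟶ Z) :
    lift (g * (h ≫ i)⁻¹) (lift h z ≫ aZ.act) ≫ j = lift g z ≫ j := by
  rw [← ChGrp.lift_twist_act, Category.assoc, hY.2.1.w, lift_snd_assoc]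

/-- The point of the balanced product of a point of `Z`. -/
noncomputable def pt (j : G ⊗ Z ⟶ Y) {T : Over S} (z : T ⟶ Z) : T ⟶ Y := lift 1 z ≫ j

theorem comp_pt (j : G ⊗ Z ⟶ Y) {T T' : Over S} (f : T ⟶ T') (z : T' ⟶ Z) : f ≫ pt j z = pt j (f ≫ z) := by
  rw [pt, pt, comp_lift_assoc, MonObj.comp_one]

theorem act_pt (hY : ChGrp.IsBalProd K₀ i aZ aY j) {T : Over S} (h : T ⟶ H) (z : T ⟶ Z) :
    lift (h ≫ i) (pt j z) ≫ aY.act = pt j (lift h z ≫ aZ.act) := by
  rw [pt, pt, j_equivariant hY, _root_.mul_one, ← j_invariant hY h (h ≫ i) z, mul_inv_cancel]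

theorem existsUnique_of_act_pt (hY : ChGrp.IsBalProd K₀ i aZ aY j) {T : Over S} (g : T ⟶ G) (z z' : T ⟶ Z)
    (hg : lift g (pt j z') ≫ aY.act = pt j z) :
    ∃ h : T ⟶ H, h ≫ i = g ∧ lift h z' ≫ aZ.act = z := by
  rw [pt, pt, j_equivariant hY, _root_.mul_one] at hg
  let l : T ⟶ H ⊗ (G ⊗ Z) := hY.2.1.lift (lift 1 z) (lift g z') hg.symm
  have h2 : l ≫ snd H (G ⊗ Z) = lift g z' := hY.2.1.lift_snd _ _ _
  have hl : l = lift (l ≫ fst H (G ⊗ Z)) (lift g z') := by
    apply CartesianMonoidalCategory.hom_ext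
    · rw [lift_fst]
    · rw [lift_snd, h2]
  have h1 : l ≫ (ChGrp.twist i aZ).act = lift 1 z := hY.2.1.lift_fst _ _ _
  rw [hl, ChGrp.lift_twist_act] at h1
  refine ⟨l ≫ fst H (G ⊗ Z), ?_, ?_⟩
  · have := congrArg (· ≫ fst G Z) h1
    simp only [lift_fst] at this
    exact (mul_inv_eq_one.1 this).symm
  · simpa using congrArg (· ≫ snd G Z) h1

/-- A point of `Z`. -/
structure Pt (Z : Over S) where
  /-- the base -/
  T : Over S
  /-- the point -/
  z : T ⟶ Z

variable (aZ) in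
/-- The trivial torsor of a point. -/
noncomputable abbrev ptVal (c : Pt Z) : AlgSt.QuotObj K₀ H aZ := triv K₀ H aZ c.z

variable (aZ) in
/-- The category of points of `Z` with the isomorphisms of `[Z/H]`. -/
noncomputable abbrev 𝒜 : BasedCategory (Over S) :=
  BasedCategory.ofFunctor (inducedFunctor (ptVal aZ) ⋙ AlgSt.QuotObj.forget K₀ H aZ)

variable (aZ) in
/-- The chart of `[Z/H]`. -/
noncomputable abbrev chartH : 𝒜 aZ ⥤ᵇ AlgSt.QuotSt K₀ H aZ where
  toFunctor := inducedFunctor (ptVal aZ)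
  w := rfl

theorem chartG_aux (hY : ChGrp.IsBalProd K₀ i aZ aY j) {c c' : Pt Z} (m : ptVal aZ c ⟶ ptVal aZ c') :
    lift (coord m ≫ i) (mb m) ≫ (triv K₀ G aY (pt j c'.z)).φ = pt j c.z := by
  rw [triv_φ, lift_whiskerLeft_assoc, comp_pt, act_pt hY]
  exact congrArg (pt j) (coord_spec m)

/-- The morphism of `[Y/G]` of a morphism of points. -/
noncomputable def chartGMap (hY : ChGrp.IsBalProd K₀ i aZ aY j) {c c' : Pt Z} (m : ptVal aZ c ⟶ ptVal aZ c') :
    triv K₀ G aY (pt j c.z) ⟶ triv K₀ G aY (pt j c'.z) :=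
  trivHom (triv K₀ G aY (pt j c'.z)) (lift (coord m ≫ i) (mb m)) _ (chartG_aux hY m)

theorem chartGMap_base (hY : ChGrp.IsBalProd K₀ i aZ aY j) {c c' : Pt Z} (m : ptVal aZ c ⟶ ptVal aZ c') :
    mb (chartGMap hY m) = mb m := lift_snd _ _

theorem chartGMap_sec (hY : ChGrp.IsBalProd K₀ i aZ aY j) {c c' : Pt Z} (m : ptVal aZ c ⟶ ptVal aZ c') :
    sec G c.T ≫ mt (chartGMap hY m) = lift (coord m ≫ i) (mb m) := trivHom_sec _ _ _ _

theorem coord_chartGMap (hY : ChGrp.IsBalProd K₀ i aZ aY j) {c c' : Pt Z} (m : ptVal aZ c ⟶ ptVal aZ c') :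
    coord (chartGMap hY m) = coord m ≫ i := by
  show sec G c.T ≫ mt (chartGMap hY m) ≫ fst G c'.T = _
  rw [← Category.assoc, chartGMap_sec, lift_fst]

/-- The chart of `[Y/G]`. -/
noncomputable def chartG (hY : ChGrp.IsBalProd K₀ i aZ aY j) : 𝒜 aZ ⥤ᵇ AlgSt.QuotSt K₀ G aY where
  toFunctor :=
    { obj := fun c => triv K₀ G aY (pt j c.z)
      map := fun m => chartGMap hY m.hom
      map_id := fun c => hom_ext_coord (chartGMap_base hY _) (by
        rw [coord_chartGMap, coord_id]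
        show coord (𝟙 (ptVal aZ c)) ≫ i = 1
        rw [coord_id, MonObj.one_comp])
      map_comp := fun {c c' c''} m m' => hom_ext_coord (by
          rw [chartGMap_base]
          show mb m.hom ≫ mb m'.hom = mb (chartGMap hY m.hom) ≫ mb (chartGMap hY m'.hom)
          rw [chartGMap_base, chartGMap_base]) (by
        rw [coord_chartGMap, coord_comp, coord_chartGMap, coord_chartGMap, chartGMap_base]
        show coord (m.hom ≫ m'.hom) ≫ i = _
        rw [coord_comp, MonObj.mul_comp, Category.assoc]) }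
  w := CategoryTheory.Functor.ext (fun _ => rfl) fun c c' m => by
    show mb (chartGMap hY m.hom) = 𝟙 _ ≫ mb m.hom ≫ 𝟙 _
    rw [chartGMap_base, Category.id_comp, Category.comp_id]

theorem chartG_faithful (hY : ChGrp.IsBalProd K₀ i aZ aY j) [Mono i] : (chartG hY).toFunctor.Faithful := by
  refine ⟨fun {c c'} m m' h => InducedCategory.hom_ext ?_⟩
  have hb : mb (chartGMap hY m.hom) = mb (chartGMap hY m'.hom) := congrArg (fun k => mb k) h
  have hc : coord (chartGMap hY m.hom) = coord (chartGMap hY m'.hom) := congrArg (fun k => coord k) h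
  rw [chartGMap_base, chartGMap_base] at hb
  rw [coord_chartGMap, coord_chartGMap, cancel_mono] at hc
  exact hom_ext_coord hb hc

theorem chartG_full (hY : ChGrp.IsBalProd K₀ i aZ aY j) : (chartG hY).toFunctor.Full := by
  refine ⟨fun {c c'} φ => ?_⟩
  have h0 := coord_spec (aX := aY) φ
  rw [comp_pt] at h0
  obtain ⟨h, hh, hz⟩ := existsUnique_of_act_pt hY (coord φ) c.z (mb φ ≫ c'.z) h0
  obtain ⟨m, hb, hm⟩ := (hom_triv_iff (K := K₀) (G := H) (aX := aZ) (mb φ) c.z c'.z).2 h hz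
  have hm' : mt m = lift (fst H c.T * (snd H c.T ≫ h)) (snd H c.T ≫ mb φ) := hm
  have hcoord : coord m = h := by
    rw [coord, hm', lift_fst, sec, comp_mul, lift_fst, lift_snd_assoc, Category.id_comp, _root_.one_mul]
  refine ⟨InducedCategory.homMk m, hom_ext_coord ((chartGMap_base hY m).trans hb) ?_⟩
  exact (coord_chartGMap hY m).trans (by rw [hcoord, hh])

theorem hasLifts : HasLifts (𝒜 aZ) := fun d V g => by
  refine ⟨⟨V, g ≫ d.z⟩, InducedCategory.homMk
    ((quotMap K₀ H aZ).map ((ofOverCat Z).map (Over.homMk g rfl : Over.mk (g ≫ d.z) ⟶ Over.mk d.z))), ?_⟩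
  exact IsHomLift.of_fac' (𝒜 aZ).p g _ rfl rfl (by
    show g = 𝟙 _ ≫ g ≫ 𝟙 _
    simp)

theorem covers_chartH : Covers (QuotSh.J K₀ S) (chartH aZ) := fun A => by
  obtain ⟨R, hR, hR'⟩ := covers_triv A
  refine ⟨R, hR, fun V f hf => ?_⟩
  obtain ⟨x, φ, hφ⟩ := hR' f hf
  exact ⟨⟨V, x⟩, φ, IsHomLift.of_fac' _ _ _ rfl rfl (by show φ.base = _; simp [hφ])⟩

theorem covers_chartG (hY : ChGrp.IsBalProd K₀ i aZ aY j) : Covers (QuotSh.J K₀ S) (chartG hY) := fun A => by
  obtain ⟨R, hR, hR'⟩ := covers_triv A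
  choose x φ hφ using hR'
  obtain ⟨Rj, hRj, hsec⟩ := hY.2.2
  have hj : (Sieve.overEquiv Y).symm (Sieve.generate Rj) ∈ QuotSh.J K₀ S Y :=
    GrothendieckTopology.overEquiv_symm_mem_over _ _ _ (Precoverage.generate_mem_toGrothendieck hRj)
  refine ⟨Sieve.bind R.arrows fun V f hf => ((Sieve.overEquiv Y).symm (Sieve.generate Rj)).pullback (x f hf),
    GrothendieckTopology.bind_covering _ hR fun V f hf => GrothendieckTopology.pullback_stable _ _ hj, ?_⟩
  rintro V _ ⟨W, k, f, hf, ⟨Q, a, r, hr, hk⟩, rfl⟩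
  obtain ⟨s, hs⟩ := hsec r hr
  have hs' : s ≫ j.left = r := hs
  let xy : V ⟶ Y := k ≫ x f hf
  have hk' : a ≫ r = xy.left := hk
  let b : V ⟶ G ⊗ Z := Over.homMk (a ≫ s) (by
    rw [← Over.w j, ← Category.assoc, Category.assoc a, hs', hk']
    exact Over.w xy)
  have hb : b ≫ j = xy := Over.OverMorphism.ext (by
    show (a ≫ s) ≫ j.left = xy.left
    rw [Category.assoc, hs', hk'])
  let c : Pt Z := ⟨V, b ≫ snd G Z⟩
  have hx : lift (b ≫ fst G Z)⁻¹ xy ≫ aY.act = pt j c.z := by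
    have hb' : lift (b ≫ fst G Z) (b ≫ snd G Z) = b := by rw [← comp_lift, lift_fst_snd, Category.comp_id]
    have := j_equivariant hY (b ≫ fst G Z)⁻¹ (b ≫ fst G Z) (b ≫ snd G Z)
    rw [inv_mul_cancel, hb', hb] at this
    exact this
  obtain ⟨m, hm, -⟩ := (hom_triv_iff (K := K₀) (G := G) (aX := aY) (𝟙 V) (pt j c.z) xy).2 _
    (by rw [Category.id_comp]; exact hx)
  refine ⟨c, m ≫ (quotMap K₀ G aY).map ((ofOverCat Y).map (Over.homMk k rfl : Over.mk xy ⟶ Over.mk (x f hf))) ≫ φ f hf,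
    IsHomLift.of_fac' _ _ _ rfl rfl ?_⟩
  show m.base ≫ k ≫ (φ f hf).base = _
  rw [hm, hφ f hf]
  simp
  rfl

/-- The quotient stacks of a space and of its balanced product are equivalent. -/
theorem exists_equiv [IsAffineHom G.hom] [IsAffineHom H.hom] [Mono i]
    (hY : ChGrp.IsBalProd K₀ i aZ aY j) :
    ∃ e : AlgSt.QuotSt K₀ H aZ ⥤ᵇ AlgSt.QuotSt K₀ G aY, FibCat.IsEquivOver e := by
  haveI := chartG_full hY
  haveI := chartG_faithful hY
  haveI : (chartH aZ).toFunctor.Full := InducedCategory.full _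
  haveI : (chartH aZ).toFunctor.Faithful := InducedCategory.faithful _
  refine exists_equiv_of_span (J := QuotSh.J K₀ S) (i := chartH aZ) (j := chartG hY) ?_ ?_ hasLifts
    covers_chartH (covers_chartG hY)
  · exact (Groth.Agent.StkLib.isStack_iff_of_isEquivOver _ Groth.Agent.AlgStLib.ToSp.toSp_isEquivOver).2
      Groth.Agent.AlgStLib.SpQuot.isStack
  · exact (Groth.Agent.StkLib.isStack_iff_of_isEquivOver _ Groth.Agent.AlgStLib.ToSp.toSp_isEquivOver).2
      Groth.Agent.AlgStLib.SpQuot.isStack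

end Groth.Agent.QuotLib.BalProd
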