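import Groth.Prelude.Def_StGerb2
import Groth.Agent.QuotLib.BalProdEquiv
import Groth.Agent.IsoNatLib.Cls

/-!
# The chart of the classifying stack given by a point with represented automorphisms

If a group scheme `G` represents the automorphisms of an `S`-point `x` of a fibred category, the trivial torsors
map fully faithfully to the values of `x`.
-/

set_option autoImplicit false
set_option backward.isDefEq.respectTransparency false
set_option backward.isDefEq.respectTransparency.types false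

universe u

open CategoryTheory CategoryTheory.Functor CategoryTheory.Limits MonoidalCategory CartesianMonoidalCategory MonObj
  GrpObj AlgebraicGeometry Opposite

namespace Groth.Agent.QuotLib.BGChart

open Groth.Agent.FibBase Groth.Agent.GrpSchLib Groth.Agent.IsoNatLib Groth.Agent.QuotLib.BalProd AlgSt

variable {S : Scheme.{u}} {G : Over S} [GrpObj G] {𝒳 : AlgSt.Cat S}
  {x : FibCat.overCat (Over.mk (𝟙 S)) ⥤ᵇ 𝒳}

local notation "K₀" => Scheme.fppfPrecoverage

/-- A scheme over `S` as an object over the final one. -/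
noncomputable abbrev toId (T : Over S) : Over (Over.mk (𝟙 S)) := Over.mk ((Over.mkIdTerminal (X := S)).from T)

/-- The morphism over the final scheme of a morphism over `S`. -/
noncomputable abbrev toIdMap {T T' : Over S} (f : T ⟶ T') : toId T ⟶ toId T' :=
  Over.homMk f ((Over.mkIdTerminal (X := S)).hom_ext _ _)

theorem toId_hom_left (T : Over S) : (toId T).hom.left = T.hom := by
  simpa using Over.w ((Over.mkIdTerminal (X := S)).from T)

/-- A point of `G` as a section of the presheaf of points. -/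
noncomputable def toPts {T : Over S} (g : T ⟶ G) : (Gerb.ptsGrp (Over.mk (𝟙 S)) G).obj (op (toId T)) :=
  (Over.homMk (U := Over.mk (toId T).hom.left) (V := G) g.left (by
    show g.left ≫ G.hom = (toId T).hom.left
    rw [toId_hom_left]; exact Over.w g) : Over.mk (toId T).hom.left ⟶ G)

/-- A section of the presheaf of points as a point of `G`. -/
noncomputable def ofPts {T : Over S} (a : (Gerb.ptsGrp (Over.mk (𝟙 S)) G).obj (op (toId T))) : T ⟶ G :=
  Over.homMk (show Over.mk (toId T).hom.left ⟶ G from a).left ((Over.w _).trans (toId_hom_left T))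

theorem toPts_ofPts {T : Over S} (a : (Gerb.ptsGrp (Over.mk (𝟙 S)) G).obj (op (toId T))) : toPts (ofPts a) = a :=
  Over.OverMorphism.ext rfl

theorem toPts_injective {T : Over S} {g g' : T ⟶ G} (h : toPts g = toPts g') : g = g' :=
  Over.OverMorphism.ext (congrArg (fun k : Over.mk (toId T).hom.left ⟶ G => k.left) h)

theorem toPts_mul {T : Over S} (g g' : T ⟶ G) : toPts (g * g') = toPts g * toPts g' := by
  let e : Over.mk (toId T).hom.left ⟶ T := Over.homMk (𝟙 T.left) (by
    show 𝟙 T.left ≫ T.hom = (toId T).hom.left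
    rw [toId_hom_left, Category.id_comp])
  have he : ∀ k : T ⟶ G, (toPts k : Over.mk (toId T).hom.left ⟶ G) = e ≫ k := fun k =>
    Over.OverMorphism.ext (Category.id_comp k.left).symm
  show (toPts (g * g') : Over.mk (toId T).hom.left ⟶ G) =
    (toPts g : Over.mk (toId T).hom.left ⟶ G) * (toPts g' : Over.mk (toId T).hom.left ⟶ G)
  rw [he, he, he, MonObj.comp_mul]

theorem map_toPts {T T' : Over S} (f : T ⟶ T') (g : T' ⟶ G) :
    (Gerb.ptsGrp (Over.mk (𝟙 S)) G).map (toIdMap f).op (toPts g) = toPts (f ≫ g) :=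
  Over.OverMorphism.ext rfl

variable (r : Gerb.AutRep x (Gerb.ptsGrp (Over.mk (𝟙 S)) G))

/-- The automorphism of a point. -/
noncomputable def aut {T : Over S} (g : T ⟶ G) : Gerb.AutO (x.obj (toId T)) := r.iso (toId T) (toPts g)

theorem aut_mul {T : Over S} (g g' : T ⟶ G) : (aut r (g * g')).hom.1 = (aut r g').hom.1 ≫ (aut r g).hom.1 := by
  rw [aut, toPts_mul, map_mul]
  rfl

theorem aut_one {T : Over S} : (aut r (1 : T ⟶ G)).hom.1 = 𝟙 _ := by
  have h1 : toPts (1 : T ⟶ G) = 1 := mul_eq_left.1 (by rw [← toPts_mul, _root_.mul_one] : toPts (1 : T ⟶ G) * toPts (1 : T ⟶ G) = toPts (1 : T ⟶ G))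
  rw [aut, h1, map_one]
  rfl

theorem aut_natural {T T' : Over S} (f : T ⟶ T') (g : T' ⟶ G) :
    (aut r (f ≫ g)).hom.1 ≫ x.map (toIdMap f) = x.map (toIdMap f) ≫ (aut r g).hom.1 := by
  rw [aut, ← map_toPts]
  exact r.natural (toIdMap f) (toPts g)

theorem aut_injective {T : Over S} {g g' : T ⟶ G} (h : (aut r g).hom.1 = (aut r g').hom.1) : g = g' :=
  toPts_injective ((r.iso (toId T)).injective (Iso.ext (Subtype.ext h)))

/-- The image of a morphism of trivial torsors. -/
noncomputable def mapHom {T T' : Over S} {a : T ⟶ 𝟙_ (Over S)} {a' : T' ⟶ 𝟙_ (Over S)}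
    (m : triv K₀ G (AlgSt.trivAction G) a ⟶ triv K₀ G (AlgSt.trivAction G) a') : x.obj (toId T) ⟶ x.obj (toId T') :=
  (aut r (coord m)⁻¹).hom.1 ≫ x.map (toIdMap (mb m))

variable [hX : FibCat.IsFibGrpd 𝒳.p]

/-- The chart. -/
noncomputable def chartX : 𝒜 (AlgSt.trivAction G) ⥤ᵇ 𝒳 where
  toFunctor :=
    { obj := fun c => x.obj (toId c.T)
      map := fun m => mapHom r m.hom
      map_id := fun c => by
        have hb : toIdMap (mb (𝟙 (ptVal (AlgSt.trivAction G) c))) = 𝟙 (toId c.T) := Over.OverMorphism.ext rfl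
        show (aut r (coord (𝟙 (ptVal (AlgSt.trivAction G) c)))⁻¹).hom.1 ≫
          x.map (toIdMap (mb (𝟙 (ptVal (AlgSt.trivAction G) c)))) = _
        rw [coord_id, inv_one, aut_one, hb, x.map_id, Category.id_comp]
      map_comp := fun {c c' c''} m m' => by
        have hb : toIdMap (mb (m.hom ≫ m'.hom)) = toIdMap (mb m.hom) ≫ toIdMap (mb m'.hom) :=
          Over.OverMorphism.ext rfl
        show (aut r (coord (m.hom ≫ m'.hom))⁻¹).hom.1 ≫ x.map (toIdMap (mb (m.hom ≫ m'.hom))) = _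
        rw [coord_comp, _root_.mul_inv_rev, aut_mul, hb, x.map_comp, ← GrpObj.comp_inv]
        simp only [mapHom, Category.assoc]
        rw [reassoc_of% aut_natural r (mb m.hom) (coord m'.hom)⁻¹] }
  w := CategoryTheory.Functor.ext (fun c => x.w_obj (toId c.T)) fun c c' m => by
    show 𝒳.p.map ((aut r (coord m.hom)⁻¹).hom.1 ≫ x.map (toIdMap (mb m.hom))) = _ ≫ mb m.hom ≫ _
    rw [Functor.map_comp, Groth.Agent.StkLib.w_map, map_eq_of_isHomLift_id (aut r _).hom.2]
    rw [show (FibCat.overCat _).p.map (toIdMap (mb m.hom)) = mb m.hom from rfl]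
    simp

theorem chartX_faithful : (chartX r).toFunctor.Faithful := by
  refine ⟨fun {c c'} m m' h => InducedCategory.hom_ext ?_⟩
  change mapHom r m.hom = mapHom r m'.hom at h
  have hp := congrArg 𝒳.p.map h
  have hb : mb m.hom = mb m'.hom := by
    have hm := fun m : c ⟶ c' => Functor.congr_hom (chartX r).w m
    have h1 : 𝒳.p.map (mapHom r m.hom) = _ := hm m
    have h2 : 𝒳.p.map (mapHom r m'.hom) = _ := hm m'
    rw [h1, h2, cancel_epi, cancel_mono] at hp
    exact hp
  refine hom_ext_coord hb (inv_injective (aut_injective r ?_))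
  simp only [mapHom, hb] at h
  have hl : ∀ g : c.T ⟶ G, 𝒳.p.IsHomLift (eqToHom (x.w_obj (toId c.T))) (aut r g).hom.1 := fun g =>
    IsHomLift.of_fac' _ _ _ rfl (x.w_obj (toId c.T)) (by
      rw [map_eq_of_isHomLift_id (aut r g).hom.2]; simp)
  have := hl (coord m.hom)⁻¹
  have := hl (coord m'.hom)⁻¹
  exact cancel_map (K := x) (toIdMap (mb m'.hom)) (g := eqToHom (x.w_obj (toId c.T))) h

theorem chartX_full : (chartX r).toFunctor.Full := by
  refine ⟨fun {c c'} n => ?_⟩
  change x.obj (toId c.T) ⟶ x.obj (toId c'.T) at n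
  let f : c.T ⟶ c'.T := eqToHom (x.w_obj (toId c.T)).symm ≫ 𝒳.p.map n ≫ eqToHom (x.w_obj (toId c'.T))
  have h₁ : 𝒳.p.IsHomLift f n := IsHomLift.of_fac' _ f n (x.w_obj _) (x.w_obj _) (by simp [f])
  have h₂ : 𝒳.p.IsHomLift f (x.map (toIdMap f)) := overMap_isHomLift x (toIdMap f)
  obtain ⟨e, he, hee⟩ := exists_iso_of_lifts (p := 𝒳.p) f (x.map (toIdMap f)) n
  have hd : 𝒳.p.obj (x.obj (toId c.T)) = c.T := x.w_obj _
  have he' : 𝒳.p.IsHomLift (𝟙 (𝒳.p.obj (x.obj (toId c.T)))) e.hom :=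
    IsHomLift.of_fac' _ _ _ rfl rfl (by
      rw [IsHomLift.fac' 𝒳.p (𝟙 c.T) e.hom]
      simp)
  let σ : Gerb.AutO (x.obj (toId c.T)) := fiberIsoMk (a := Gerb.fib _) (b := Gerb.fib _) e he'
  let g : c.T ⟶ G := (ofPts ((r.iso (toId c.T)).symm σ))⁻¹
  obtain ⟨m, hb, hm⟩ := (hom_triv_iff (K := K₀) (G := G) (aX := AlgSt.trivAction G) f c.z c'.z).2 g (toUnit_unique _ _)
  have hm' : mt m = lift (fst G c.T * (snd G c.T ≫ g)) (snd G c.T ≫ f) := hm
  have hcoord : coord m = g := by
    rw [coord, hm', lift_fst, sec, comp_mul, lift_fst, lift_snd_assoc, Category.id_comp, _root_.one_mul]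
  have hg : aut r g⁻¹ = σ := by
    rw [aut, _root_.inv_inv, toPts_ofPts, MulEquiv.apply_symm_apply]
  refine ⟨InducedCategory.homMk m, ?_⟩
  show (aut r (coord m)⁻¹).hom.1 ≫ x.map (toIdMap (mb m)) = n
  rw [hcoord, hg, show mb m = f from hb]
  exact hee

/-- Over a gerbe every object is locally a value of the point. -/
theorem covers_chartX {π : 𝒳 ⥤ᵇ FibCat.overCat (Over.mk (𝟙 S))}
    (hπ : Gerb.LocSurjHom (QuotSh.J K₀ S) π) : Covers (QuotSh.J K₀ S) (chartX r) := fun A => by
  let T := 𝒳.p.obj A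
  have e₁ : (π.obj A).left = T := π.w_obj A
  have e₂ : (π.obj (x.obj (toId T))).left = T := (π.w_obj _).trans (x.w_obj _)
  let b : π.obj A ⟶ π.obj (x.obj (toId T)) :=
    Over.homMk (eqToHom (e₁.trans e₂.symm)) ((Over.mkIdTerminal (X := S)).hom_ext _ _)
  obtain ⟨R, hR, hR'⟩ := hπ A (x.obj (toId T)) b (IsHomLift.of_fac' _ _ _ e₁ e₂ (by
    show eqToHom (e₁.trans e₂.symm) = _
    simp [T]))
  refine ⟨R, hR, fun V f hf => ?_⟩
  obtain ⟨x₀, φ, ψ, hφ, hψ, -⟩ := hR' f hf
  have h₂ : 𝒳.p.IsHomLift f (x.map (toIdMap f)) := overMap_isHomLift x (toIdMap f)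
  obtain ⟨e, he, -⟩ := exists_iso_of_lifts (p := 𝒳.p) f ψ (x.map (toIdMap f))
  exact ⟨⟨V, toUnit V⟩, e.hom ≫ φ, IsHomLift.comp_lift_id_left' 𝒳.p V e.hom f φ⟩

end Groth.Agent.QuotLib.BGChart
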