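import Groth.Agent.QuotLib.TrivHom

/-!
# Isomorphism classes of torsors with a section are orbits
-/

set_option autoImplicit false
set_option backward.isDefEq.respectTransparency false
set_option backward.isDefEq.respectTransparency.types false

universe u

open CategoryTheory CategoryTheory.Limits MonoidalCategory CartesianMonoidalCategory MonObj GrpObj AlgebraicGeometry

namespace Groth.Agent.QuotLib.Pointed

open Groth.Agent.GrpSchLib AlgSt

variable {S : Scheme.{u}} {K : Precoverage Scheme.{u}} [K.HasIsos] {G : Over S} [GrpObj G] {X : Over S}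
  {aX : AlgGrp.Action G X} {T : Over S}

theorem orbit_of_hom {A B : QuotObj K G aX} (φ : A ⟶ B) (tA : T ⟶ A.P) (tB : T ⟶ B.P)
    (h : tB ≫ B.π = tA ≫ A.π ≫ φ.base) :
    ∃ g : T ⟶ G, lift g (tA ≫ A.φ) ≫ aX.act = tB ≫ B.φ := by
  have w : tB ≫ B.π = (tA ≫ φ.top) ≫ B.π := by rw [h, Category.assoc, φ.cart.w]
  let p : T ⟶ G ⊗ B.P := B.cart.lift tB (tA ≫ φ.top) w
  have hp : p = lift (p ≫ fst G B.P) (tA ≫ φ.top) := by
    apply CartesianMonoidalCategory.hom_ext <;> simp [p]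
  refine ⟨p ≫ fst G B.P, ?_⟩
  have h1 : (p ≫ B.act.act) ≫ B.φ = tB ≫ B.φ := by simp [p]
  rw [← h1, Category.assoc, B.eqv, ← Category.assoc]
  conv_rhs => rw [hp, lift_whiskerLeft]
  rw [Category.assoc, φ.wφ]

theorem nonempty_iso_iff (A B : QuotObj K G aX) (hA : A.base = T) (hB : B.base = T)
    (tA : T ⟶ A.P) (tB : T ⟶ B.P) (h₁ : tA ≫ A.π = eqToHom hA.symm)
    (h₂ : tB ≫ B.π = eqToHom hB.symm) :
    Nonempty (Functor.Fiber.mk (p := QuotObj.forget K G aX) hA ≅ Functor.Fiber.mk (p := QuotObj.forget K G aX) hB) ↔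
      ∃ g : T ⟶ G, lift g (tA ≫ A.φ) ≫ aX.act = tB ≫ B.φ := by
  constructor
  · rintro ⟨i⟩
    have := i.hom.2
    refine orbit_of_hom i.hom.1 tA tB ?_
    have := IsHomLift.fac' (QuotObj.forget K G aX) (𝟙 (T)) i.hom.1
    have hb : (i.hom.1).base = eqToHom hA ≫ 𝟙 _ ≫ eqToHom hB.symm := this
    show tB ≫ B.π = tA ≫ A.π ≫ (i.hom.1).base
    rw [hb, ← Category.assoc tA, h₁, h₂]
    simp
  · rintro ⟨g, hg⟩
    let bB : T ⟶ B.P := lift g⁻¹ tB ≫ B.act.act
    have hbB : bB ≫ B.φ = tA ≫ A.φ := by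
      simp only [bB]
      rw [Category.assoc, B.eqv, lift_whiskerLeft_assoc, ← hg, act_mul, inv_mul_cancel, act_one]
    have hbπ : bB ≫ B.π = eqToHom hB.symm := by
      simp only [bB]
      rw [Category.assoc, B.cart.w, lift_snd_assoc, h₂]
    let q₁ := trivHom A tA (tA ≫ A.φ) rfl
    let q₂ := trivHom B bB (tA ≫ A.φ) hbB
    let i₁ : A ≅ triv K G aX (tA ≫ A.φ) := homLiftIso q₁ (𝟙 A) (eqToIso hA) (by
      show eqToHom hA ≫ tA ≫ A.π = 𝟙 _
      rw [h₁]; simp)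
    let i₂ : B ≅ triv K G aX (tA ≫ A.φ) := homLiftIso q₂ (𝟙 B) (eqToIso hB) (by
      show eqToHom hB ≫ bB ≫ B.π = 𝟙 _
      rw [hbπ]; simp)
    let i := i₁ ≪≫ i₂.symm
    have e₁ : i.hom.base = eqToHom hA ≫ bB ≫ B.π := by
      show eqToHom hA ≫ eqToHom hB.symm = _
      rw [hbπ]
    have e₂ : i.inv.base = eqToHom hB ≫ tA ≫ A.π := by
      show eqToHom hB ≫ eqToHom hA.symm = _
      rw [h₁]
    refine ⟨⟨⟨i.hom, IsHomLift.of_fac' _ _ _ hA hB ?_⟩, ⟨i.inv, IsHomLift.of_fac' _ _ _ hB hA ?_⟩,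
      Functor.Fiber.hom_ext i.hom_inv_id, Functor.Fiber.hom_ext i.inv_hom_id⟩⟩
    · show i.hom.base = _
      rw [e₁, hbπ]; simp
    · show i.inv.base = _
      rw [e₂, h₁]; simp

end Groth.Agent.QuotLib.Pointed
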