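import Groth.Agent.QuotLib.SpAutGrp
import Groth.Agent.GerbFlat.Main
import Groth.Agent.AlgStLib.Bootstrap

/-!
# The automorphism group space of a section of a gerbe over an algebraic space
-/

set_option autoImplicit false
set_option backward.isDefEq.respectTransparency false
set_option backward.isDefEq.respectTransparency.types false

universe u

open CategoryTheory CategoryTheory.Functor CategoryTheory.Limits AlgebraicGeometry Opposite AlgSp
open Groth.Agent.AlgSpLib Groth.Agent.FibBase Groth.Agent.AlgStLib Groth.Agent.GerbFlat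

namespace Groth.Agent.QuotLib.SpAut

variable {S : Scheme.{u}}

/-- The points of a representing sheaf attached to the objects of the represented category, with the sections
of a functor into the category of a sheaf. -/
theorem exists_ptMapSp {F H : Sp S} {𝒵 : AlgSt.Cat S} (hZ : FibCat.IsFibGrpd 𝒵.p) {E : AlgSt.ofSp F ⥤ᵇ 𝒵}
    (hE : FibCat.IsEquivOver E) (Φ : 𝒵 ⥤ᵇ AlgSt.ofSp H) :
    ∃ pt : ∀ T : Over S, 𝒵.p.Fiber T → ((yon S).obj T ⟶ F),
      (∀ (T' T : Over S) (φ : T' ⟶ T) (p : 𝒵.p.Fiber T) (q : 𝒵.p.Fiber T') (m : q.1 ⟶ p.1),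
        𝒵.p.IsHomLift φ m → (yon S).map φ ≫ pt T p = pt T' q) ∧
      (∀ (T : Over S) (p q : 𝒵.p.Fiber T), pt T p = pt T q → Nonempty (p ≅ q)) ∧
      (∀ (T : Over S) (τ : (yon S).obj T ⟶ F), ∃ p, pt T p = τ) ∧
      ∀ (T : Over S) (p : 𝒵.p.Fiber T),
        pt T p ≫ spHom (BasedFunctor.comp E Φ) =
          (J S).uliftYonedaEquiv.symm (H.obj.map (eqToHom p.2.symm).op (secAt Φ p.1)) := by
  have hfull := full_of_isEquivOver hE
  have ex : ∀ (T : Over S) (p : 𝒵.p.Fiber T), ∃ (σ : F.obj.obj (op T)) (ι : E.obj ⟨T, σ⟩ ≅ p.1),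
      𝒵.p.IsHomLift (𝟙 T) ι.hom := fun T p => by
    obtain ⟨⟨B, σ⟩, ι, hι⟩ := exists_iso_over_of_isEquivOver hE p.1 p.2
    obtain rfl : B = T := (E.w_obj ⟨B, σ⟩).symm.trans (IsHomLift.domain_eq 𝒵.p (𝟙 T) ι.hom)
    exact ⟨σ, ι, hι⟩
  choose σ ι hι using ex
  have uniq : ∀ (T : Over S) (p : 𝒵.p.Fiber T) (s : F.obj.obj (op T)) (j : E.obj ⟨T, s⟩ ≅ p.1),
      𝒵.p.IsHomLift (𝟙 T) j.hom → σ T p = s := fun T p s j hj => by
    have := IsHomLift.lift_id_inv 𝒵.p T j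
    have := hι T p
    have hc : 𝒵.p.IsHomLift (𝟙 T) ((ι T p).hom ≫ j.inv) :=
      IsHomLift.comp_lift_id_right' _ (𝟙 T) _ T _
    obtain ⟨l, hl⟩ := E.map_surjective ((ι T p).hom ≫ j.inv)
    rw [← hl, BasedFunctor.isHomLift_iff] at hc
    have hb : l.hom = 𝟙 T := (map_eq_of_isHomLift_id hc).trans rfl
    have hls := l.map_sec
    rw [hb] at hls
    simpa using hls.symm
  refine ⟨fun T p => (J S).uliftYonedaEquiv.symm (σ T p), fun T' T φ p q m hm => ?_, fun T p q h => ?_,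
    fun T τ => ?_, fun T p => ?_⟩
  · apply (J S).uliftYonedaEquiv.injective
    rw [← Groth.Agent.AlgSpLib.uliftYonedaEquiv_precomp, Equiv.apply_symm_apply, Equiv.apply_symm_apply]
    let n : (⟨T', F.obj.map φ.op (σ T p)⟩ : (AlgSt.ofSp F).obj) ⟶ ⟨T, σ T p⟩ := ⟨φ, rfl⟩
    have hn : (AlgSt.ofSp F).p.IsHomLift φ n :=
      inferInstanceAs ((AlgSt.ofSp F).p.IsHomLift ((AlgSt.ofSp F).p.map n) n)
    have := E.preserves_isHomLift φ n
    have := hι T p
    have : 𝒵.p.IsHomLift φ (E.map n ≫ (ι T p).hom) := IsHomLift.comp_lift_id_right' _ φ _ T _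
    obtain ⟨j, hj, -⟩ := exists_iso_of_lifts (hp := hZ) φ m (E.map n ≫ (ι T p).hom)
    exact (uniq T' q _ j hj).symm
  · have e : σ T p = σ T q := (J S).uliftYonedaEquiv.symm.injective h
    have hgen : ∀ {s s' : F.obj.obj (op T)} (_ : s = s') (a : E.obj ⟨T, s⟩ ≅ p.1) (b : E.obj ⟨T, s'⟩ ≅ q.1),
        𝒵.p.IsHomLift (𝟙 T) a.hom → 𝒵.p.IsHomLift (𝟙 T) b.hom → Nonempty (p ≅ q) := by
      rintro s _ rfl a b ha hb
      haveI : 𝒵.p.IsHomLift (𝟙 T) a.symm.hom := IsHomLift.lift_id_inv 𝒵.p T a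
      exact ⟨fiberIsoMk (a.symm ≪≫ b) (IsHomLift.comp_lift_id_right' _ (𝟙 T) _ T _)⟩
    exact hgen e _ _ (hι T p) (hι T q)
  · refine ⟨⟨E.obj ⟨T, (J S).uliftYonedaEquiv τ⟩, E.w_obj _⟩, ?_⟩
    exact (congrArg (J S).uliftYonedaEquiv.symm (uniq T ⟨E.obj ⟨T, (J S).uliftYonedaEquiv τ⟩, E.w_obj _⟩
      ((J S).uliftYonedaEquiv τ) (Iso.refl _) (IsHomLift.id (p := 𝒵.p) (E.w_obj _)))).trans
      (Equiv.symm_apply_apply _ τ)
  · apply (J S).uliftYonedaEquiv.injective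
    rw [GrothendieckTopology.uliftYonedaEquiv_comp, Equiv.apply_symm_apply, Equiv.apply_symm_apply]
    show secAt (BasedFunctor.comp E Φ) (⟨T, σ T p⟩ : (AlgSt.ofSp F).obj) =
      H.obj.map (eqToHom p.2.symm).op (secAt Φ p.1)
    have := hι T p
    have hm := IsHomLift.fac' 𝒵.p (𝟙 T) (ι T p).hom
    have h := secAt_map Φ (ι T p).hom
    refine Eq.trans ?_ ((congrArg (H.obj.map (eqToHom (E.w_obj ⟨T, σ T p⟩).symm).op) h.symm).trans
      ((res_res H.obj _ _ _).trans (res_congr H.obj ?_ _)))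
    · exact ((res_res H.obj _ _ _).trans (res_congr H.obj (eqToHom_trans _ _) _)).symm
    · rw [hm]; simp

/-- A vertical morphism of the category of a sheaf is an equality. -/
theorem elt_eq_of_lift {F : Sp S} {a b : (AlgSt.ofSp F).obj} (m : a ⟶ b) {T : Over S}
    (hm : (AlgSt.ofSp F).p.IsHomLift (𝟙 T) m) : a = b := by
  obtain ⟨T₁, s₁⟩ := a
  obtain ⟨T₂, s₂⟩ := b
  obtain rfl : T₁ = T := IsHomLift.domain_eq (AlgSt.ofSp F).p (𝟙 T) m
  obtain rfl : T₂ = T₁ := IsHomLift.codomain_eq (AlgSt.ofSp F).p (𝟙 T₁) m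
  have h1 : m.hom = 𝟙 T₂ := map_eq_of_isHomLift_id (p := (AlgSt.ofSp F).p) hm
  have h2 := m.map_sec
  rw [h1] at h2
  have h3 : s₁ = s₂ := h2.symm.trans (res_id F.obj _ rfl s₂)
  rw [h3]

theorem elt_hom_eq_id {F : Sp S} {a : (AlgSt.ofSp F).obj} (m : a ⟶ a) {T : Over S}
    (hm : (AlgSt.ofSp F).p.IsHomLift (𝟙 T) m) : m = 𝟙 a :=
  Stk.EltObj.hom_ext (map_eq_of_isHomLift_id (p := (AlgSt.ofSp F).p) hm)

/-- The automorphisms of the values of a section of a gerbe form a flat group space locally of finite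
presentation. -/
theorem exists_autGrp_space {𝒳 : AlgSt.Cat S} (h𝒳 : AlgSt.IsAlgStack Scheme.fppfPrecoverage 𝒳)
    {U : AlgSp.Space S} {π : 𝒳 ⥤ᵇ AlgSt.ofSp U.obj} (hπ : Gerb.IsGerbeOver (J S) π)
    {x : AlgSt.ofSp U.obj ⥤ᵇ 𝒳} (e : BasedFunctor.comp x π ≅ BasedFunctor.id (AlgSt.ofSp U.obj)) :
    ∃ (G : Over U.obj) (_ : GrpObj G), IsAlgSpace G.left ∧ LocP @Flat G.hom ∧
      LocP @LocallyOfFinitePresentation G.hom ∧ Nonempty (AutGrp x G) := by
  haveI hg : FibCat.IsFibGrpd 𝒳.p := h𝒳.isStack.1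
  have hU : AlgSt.IsAlgStack Scheme.fppfPrecoverage (AlgSt.ofSp U.obj) := isAlgStack_ofSp U
  have hx : AlgSt.RepByAlgSpWith P3 x := repByAlgSpWith_section e (diag_of_isGerbeOver h𝒳 hU hπ)
  have hfp := isAlgStack_fp hU hU h𝒳.isStack h𝒳.diag x x
  have hfst : ∀ {η η' : (FibCat.fp x x).obj} (m m' : η ⟶ η'),
      (FibCat.fp x x).p.map m = (FibCat.fp x x).p.map m' → m = m' := fun {η η'} m m' h => by
    refine ObjectProperty.hom_ext _ (CategoricalPullback.hom_ext (Stk.EltObj.hom_ext h) (Stk.EltObj.hom_ext ?_))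
    have h1 := preservesHomLift_snd m
    have h2 := preservesHomLift_snd m'
    have e1 := IsHomLift.fac' (AlgSt.ofSp U.obj).p ((AlgSt.ofSp U.obj).p.map m.hom.fst) m.hom.snd
    have e2 := IsHomLift.fac' (AlgSt.ofSp U.obj).p ((AlgSt.ofSp U.obj).p.map m'.hom.fst) m'.hom.snd
    have h' : (AlgSt.ofSp U.obj).p.map m.hom.fst = (AlgSt.ofSp U.obj).p.map m'.hom.fst := h
    refine e1.trans (Eq.trans ?_ e2.symm)
    exact congrArg (fun t => _ ≫ t ≫ _) h'
  obtain ⟨F, E, hE⟩ := repByAlgSp_of_isFibSetoid hfp (isFibSetoid_iff.2 ⟨hfp.isStack.1, ⟨fun h => hfst _ _ h⟩⟩)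
  let q := FibCat.fpFst x x
  let A : F.obj ⟶ U.obj := spHom (BasedFunctor.comp E q)
  have hA : P3 A := sp_P3 F.property U.property A (repBySpWith_of_repByAlgSpWith q E stableBC_P3 hE
    (repByAlgSpWith_fpFst x hx) (isoOfSpMap (BasedFunctor.comp E q)))
  let G : Over U.obj := Over.mk A
  obtain ⟨pt, h₁, h₂, h₃, h₄⟩ := exists_ptMapSp hfp.isStack.1 hE q
  let o : ∀ a : (AlgSt.ofSp U.obj).obj, Gerb.AutO (x.obj a) → (FibCat.fp x x).p.Fiber a.base := fun a α =>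
    ⟨⟨⟨a, a, ofFiberIso α⟩, isHomLift_id_congr (x.w_obj a) α.hom.2⟩, rfl⟩
  have ho : ∀ a α, pt a.base (o a α) ≫ A = (pnt a).hom := fun a α => by
    rw [h₄, pnt_hom]
    exact congrArg _ ((res_id _ _ rfl _).trans (res_id _ _ rfl _))
  let f : ∀ a : (AlgSt.ofSp U.obj).obj, Gerb.AutO (x.obj a) → (pnt a ⟶ G) := fun a α =>
    Over.homMk (pt a.base (o a α)) (ho a α)
  have hf : ∀ a, Function.Bijective (f a) := fun a => by
    refine ⟨fun α α' h => ?_, fun g => ?_⟩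
    · obtain ⟨i⟩ := h₂ _ _ _ (congrArg CommaMorphism.left h)
      have hi := i.hom.2
      have hl₁ : (AlgSt.ofSp U.obj).p.IsHomLift (𝟙 a.base) i.hom.1.hom.fst := fp_isHomLift_fst _ i.hom.1 (h := hi)
      have hl₂ : (AlgSt.ofSp U.obj).p.IsHomLift (𝟙 a.base) i.hom.1.hom.snd := fp_isHomLift_snd' _ i.hom.1 (h := hi)
      have w : x.map i.hom.1.hom.fst ≫ α'.hom.1 = α.hom.1 ≫ x.map i.hom.1.hom.snd := i.hom.1.hom.w
      have k₁ : x.map i.hom.1.hom.fst = 𝟙 (x.obj a) :=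
        (congrArg (fun m : a ⟶ a => x.map m) (elt_hom_eq_id _ hl₁)).trans (x.toFunctor.map_id a)
      have k₂ : x.map i.hom.1.hom.snd = 𝟙 (x.obj a) :=
        (congrArg (fun m : a ⟶ a => x.map m) (elt_hom_eq_id _ hl₂)).trans (x.toFunctor.map_id a)
      refine Aut.ext (Functor.Fiber.hom_ext ?_)
      show α.hom.1 = α'.hom.1
      exact (Category.comp_id α.hom.1).symm.trans (((congrArg (α.hom.1 ≫ ·) k₂).symm.trans w.symm).trans
        ((congrArg (· ≫ α'.hom.1) k₁).trans (Category.id_comp _)))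
    · obtain ⟨p, hp⟩ := h₃ a.base g.left
      have hw : pt a.base p ≫ A = (pnt a).hom := by rw [hp]; exact Over.w g
      rw [h₄, pnt_hom] at hw
      have hs := (J S).uliftYonedaEquiv.symm.injective hw
      obtain ⟨⟨⟨b, b', i⟩, hi⟩, hT⟩ := p
      obtain ⟨T, s⟩ := a
      obtain ⟨Tb, sb⟩ := b
      obtain rfl : Tb = T := hT
      obtain rfl : sb = s := ((res_id _ _ rfl _).trans (res_id _ _ rfl _)).symm.trans hs
      let a : (AlgSt.ofSp U.obj).obj := ⟨Tb, sb⟩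
      have hi' : 𝒳.p.IsHomLift (𝟙 Tb) i.hom := hi
      have h1 : (AlgSt.ofSp U.obj).p.IsHomLift (𝟙 Tb) (π.map i.hom) := π.preserves_isHomLift (𝟙 Tb) i.hom
      have h2 : (AlgSt.ofSp U.obj).p.IsHomLift (𝟙 Tb) (isoApp e a).inv := isoApp_inv_lift e rfl
      have hb' : b'.base = Tb := snd_proj (F := x) (G := x) ⟨⟨a, b', i⟩, hi⟩
      have h3 : (AlgSt.ofSp U.obj).p.IsHomLift (𝟙 Tb) (isoApp e b').hom := isoApp_lift e hb'
      obtain rfl : a = b' := elt_eq_of_lift (T := Tb) ((isoApp e a).inv ≫ π.map i.hom ≫ (isoApp e b').hom)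
        (inferInstanceAs ((AlgSt.ofSp U.obj).p.IsHomLift (𝟙 Tb)
          ((isoApp e a).inv ≫ π.map i.hom ≫ (isoApp e b').hom)))
      exact ⟨fiberIsoMk (a := Gerb.fib (x.obj a)) (b := Gerb.fib (x.obj a)) i
        (isHomLift_id_congr (x.w_obj a).symm hi'), Over.OverMorphism.ext hp⟩
  let d : AutPts x G :=
    { pt := fun a => Equiv.ofBijective (f a) (hf a)
      res := fun {a' a} k α α' w => Over.OverMorphism.ext (by
        refine (h₁ a'.base a.base k.hom (o a α) (o a' α') (ObjectProperty.homMk ⟨k, k, w.symm⟩) ?_).symm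
        exact fp_isHomLift k.hom _ (h := IsHomLift.map (AlgSt.ofSp U.obj).p k)) }
  obtain ⟨i, hi⟩ := exists_autGrp d
  exact ⟨G, i, F.property, hA.1.2, hA.2, hi⟩

end Groth.Agent.QuotLib.SpAut
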