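import Groth.Prelude.Def_StGerb2
import Groth.Agent.AlgStLib.SpQuotCover
import Groth.Agent.AlgStLib.SheafGlue
import Groth.Agent.IsoNatLib.TriRep

/-!
# The group sheaf of automorphisms of a section over a sheaf

A sheaf over `B` whose points over the sections of `B` are the automorphisms of the values of a functor is a
group object of `Over B` in a unique way compatible with composition.
-/

set_option autoImplicit false
set_option backward.isDefEq.respectTransparency false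
set_option backward.isDefEq.respectTransparency.types false

universe u

open CategoryTheory CategoryTheory.Functor CategoryTheory.Limits MonoidalCategory CartesianMonoidalCategory MonObj
open Opposite AlgebraicGeometry AlgSp Groth.Agent.AlgSpLib Groth.Agent.FibBase Groth.Agent.AlgStLib

namespace Groth.Agent.QuotLib.SpAut

variable {S : Scheme.{u}} {B : Sp S} {𝒳 : AlgSt.Cat S}

/-- The source of a point, as an object over the base sheaf. -/
noncomputable abbrev pnt (a : (AlgSt.ofSp B).obj) : Over B := SpQuot.src (X := 𝟙_ (Over B)) a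

theorem pnt_hom (a : (AlgSt.ofSp B).obj) : (pnt a).hom = (J S).uliftYonedaEquiv.symm a.sec :=
  Category.comp_id _

theorem pntMap_w {a' a : (AlgSt.ofSp B).obj} (f : a' ⟶ a) : (yon S).map f.hom ≫ (pnt a).hom = (pnt a').hom := by
  rw [pnt_hom, pnt_hom]
  exact AlgSt.secYon_comp (X := 𝟙_ (Over B)) f

/-- A morphism of points as a morphism over the base sheaf. -/
noncomputable def pntMap {a' a : (AlgSt.ofSp B).obj} (f : a' ⟶ a) : pnt a' ⟶ pnt a :=
  Over.homMk ((yon S).map f.hom) (pntMap_w f)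

@[simp] theorem pntMap_left {a' a : (AlgSt.ofSp B).obj} (f : a' ⟶ a) : (pntMap f).left = (yon S).map f.hom := rfl

theorem pntMap_comp {a'' a' a : (AlgSt.ofSp B).obj} (f : a'' ⟶ a') (g : a' ⟶ a) :
    pntMap (f ≫ g) = pntMap f ≫ pntMap g :=
  Over.OverMorphism.ext ((yon S).map_comp _ _)

theorem pntMap_id (a : (AlgSt.ofSp B).obj) : pntMap (𝟙 a) = 𝟙 _ :=
  Over.OverMorphism.ext ((yon S).map_id _)

/-- The point under a generalised point. -/
noncomputable def ptOf (Y : Over B) {T : Over S} (y : (yon S).obj T ⟶ Y.left) : (AlgSt.ofSp B).obj :=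
  ⟨T, (J S).uliftYonedaEquiv (y ≫ Y.hom)⟩

/-- A generalised point as a morphism over the base sheaf. -/
noncomputable def ptTo (Y : Over B) {T : Over S} (y : (yon S).obj T ⟶ Y.left) : pnt (ptOf Y y) ⟶ Y :=
  Over.homMk y (((pnt_hom (ptOf Y y)).trans (Equiv.symm_apply_apply _ _)).symm)

theorem hom_ext_pnt {Y Z : Over B} {φ ψ : Y ⟶ Z}
    (h : ∀ (a : (AlgSt.ofSp B).obj) (q : pnt a ⟶ Y), q ≫ φ = q ≫ ψ) : φ = ψ :=
  Over.OverMorphism.ext (SheafGlue.hom_ext_points fun _ y => congrArg CommaMorphism.left (h _ (ptTo Y y)))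

/-- A sheaf over the base whose points are the automorphisms of the values of a functor. -/
structure AutPts (x : AlgSt.ofSp B ⥤ᵇ 𝒳) (G : Over B) where
  /-- the point of an automorphism -/
  pt : ∀ a : (AlgSt.ofSp B).obj, Gerb.AutO (x.obj a) ≃ (pnt a ⟶ G)
  res : ∀ {a' a : (AlgSt.ofSp B).obj} (f : a' ⟶ a) (α : Gerb.AutO (x.obj a)) (α' : Gerb.AutO (x.obj a')),
    α'.hom.1 ≫ x.map f = x.map f ≫ α.hom.1 → pt a' α' = pntMap f ≫ pt a α

variable [hX : FibCat.IsFibGrpd 𝒳.p] {x : AlgSt.ofSp B ⥤ᵇ 𝒳} {G : Over B}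

theorem exists_res {a' a : (AlgSt.ofSp B).obj} (f : a' ⟶ a) (α : Gerb.AutO (x.obj a)) :
    ∃ α' : Gerb.AutO (x.obj a'), α'.hom.1 ≫ x.map f = x.map f ≫ α.hom.1 := by
  have := hX.isStronglyCartesian (x.map f)
  have hα := map_eq_of_isHomLift_id α.hom.2
  have hl : 𝒳.p.IsHomLift (𝒳.p.map (x.map f)) (x.map f ≫ α.hom.1) :=
    IsHomLift.of_fac' _ _ _ rfl rfl (by rw [Functor.map_comp, hα]; simp)
  obtain ⟨t, ⟨ht, ht'⟩, -⟩ := IsStronglyCartesian.universal_property 𝒳.p (𝒳.p.map (x.map f)) (x.map f)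
    (𝟙 _) (𝒳.p.map (x.map f)) (by simp) (x.map f ≫ α.hom.1)
  have := fiber_isGroupoid hX (𝒳.p.obj (x.obj a'))
  exact ⟨asIso (⟨t, ht⟩ : Gerb.fib (x.obj a') ⟶ Gerb.fib _), ht'⟩

namespace AutPts

variable (d : AutPts x G)

theorem res_symm {a' a : (AlgSt.ofSp B).obj} (f : a' ⟶ a) (g : pnt a ⟶ G) :
    ((d.pt a').symm (pntMap f ≫ g)).hom.1 ≫ x.map f = x.map f ≫ ((d.pt a).symm g).hom.1 := by
  obtain ⟨α', hα'⟩ := exists_res f ((d.pt a).symm g)
  have h := d.res f _ _ hα'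
  rw [Equiv.apply_symm_apply] at h
  rw [← h, Equiv.symm_apply_apply]
  exact hα'

/-- The automorphism at a point of a morphism into the sheaf. -/
noncomputable def val {Y : Over B} (s : Y ⟶ G) (a : (AlgSt.ofSp B).obj) (q : pnt a ⟶ Y) : Gerb.AutO (x.obj a) :=
  (d.pt a).symm (q ≫ s)

theorem val_ext {Y : Over B} {s t : Y ⟶ G} (h : ∀ a q, d.val s a q = d.val t a q) : s = t :=
  hom_ext_pnt fun a q => (d.pt a).symm.injective (h a q)

theorem val_comp {Y Y' : Over B} (g : Y' ⟶ Y) (s : Y ⟶ G) (a : (AlgSt.ofSp B).obj) (q : pnt a ⟶ Y') :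
    d.val (g ≫ s) a q = d.val s a (q ≫ g) := by rw [val, val, Category.assoc]

theorem val_natural {Y : Over B} (s : Y ⟶ G) {a' a : (AlgSt.ofSp B).obj} (f : a' ⟶ a) (q : pnt a ⟶ Y) :
    (d.val s a' (pntMap f ≫ q)).hom.1 ≫ x.map f = x.map f ≫ (d.val s a q).hom.1 := by
  rw [val, Category.assoc]
  exact d.res_symm f _

theorem exists_mk {Y : Over B} (Φ : ∀ a, (pnt a ⟶ Y) → Gerb.AutO (x.obj a))
    (hΦ : ∀ {a' a : (AlgSt.ofSp B).obj} (f : a' ⟶ a) (q : pnt a ⟶ Y),
      (Φ a' (pntMap f ≫ q)).hom.1 ≫ x.map f = x.map f ≫ (Φ a q).hom.1) :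
    ∃ s : Y ⟶ G, ∀ a q, d.val s a q = Φ a q := by
  let F : ∀ T, ((yon S).obj T ⟶ Y.left) → ((yon S).obj T ⟶ G.left) := fun T y =>
    (d.pt (ptOf Y y) (Φ _ (ptTo Y y))).left
  have hF : ∀ {a : (AlgSt.ofSp B).obj} (q : pnt a ⟶ Y), (d.pt a (Φ a q)).left = F a.base q.left := fun {a} q => by
    let f : a ⟶ ptOf Y (q.left : (yon S).obj a.base ⟶ Y.left) := ⟨𝟙 a.base, by
      show B.obj.map (𝟙 a.base).op ((J S).uliftYonedaEquiv (q.left ≫ Y.hom)) = a.sec
      rw [op_id, CategoryTheory.Functor.map_id, Over.w q, pnt_hom, Equiv.apply_symm_apply]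
      rfl⟩
    have hq : pntMap f ≫ ptTo Y q.left = q := Over.OverMorphism.ext (by
      show (yon S).map (𝟙 a.base) ≫ q.left = q.left
      rw [(yon S).map_id]; exact Category.id_comp _)
    have h := hΦ f (ptTo Y q.left)
    rw [hq] at h
    rw [d.res f _ _ h]
    show (yon S).map (𝟙 a.base) ≫ _ = _
    rw [(yon S).map_id]; exact Category.id_comp _
  have hnat : ∀ ⦃V W : Over S⦄ (k : V ⟶ W) (y : (yon S).obj W ⟶ Y.left),
      F V ((yon S).map k ≫ y) = (yon S).map k ≫ F W y := fun V W k y => by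
    let f : ptOf Y ((yon S).map k ≫ y) ⟶ ptOf Y y := ⟨k, by
      show B.obj.map k.op ((J S).uliftYonedaEquiv (y ≫ Y.hom)) = (J S).uliftYonedaEquiv (((yon S).map k ≫ y) ≫ Y.hom)
      rw [uliftYonedaEquiv_precomp, Category.assoc]⟩
    have hq : pntMap f ≫ ptTo Y y = ptTo Y ((yon S).map k ≫ y) := Over.OverMorphism.ext rfl
    have h := hΦ f (ptTo Y y)
    rw [hq] at h
    exact congrArg CommaMorphism.left (d.res f _ _ h)
  refine ⟨Over.homMk (SheafGlue.homOfPoints F hnat) (SheafGlue.hom_ext_points fun T y => ?_), fun a q => ?_⟩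
  · rw [← Category.assoc, SheafGlue.comp_homOfPoints, Over.w]
    exact (pnt_hom (ptOf Y y)).trans (Equiv.symm_apply_apply _ _)
  · rw [val, Equiv.symm_apply_eq]
    refine Over.OverMorphism.ext ?_
    show q.left ≫ SheafGlue.homOfPoints F hnat = _
    rw [SheafGlue.comp_homOfPoints]
    exact (hF q).symm

/-- The morphism with given automorphisms at points. -/
noncomputable def ofVal {Y : Over B} (Φ : ∀ a, (pnt a ⟶ Y) → Gerb.AutO (x.obj a))
    (hΦ : ∀ {a' a : (AlgSt.ofSp B).obj} (f : a' ⟶ a) (q : pnt a ⟶ Y),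
      (Φ a' (pntMap f ≫ q)).hom.1 ≫ x.map f = x.map f ≫ (Φ a q).hom.1) : Y ⟶ G :=
  (d.exists_mk Φ hΦ).choose

theorem val_ofVal {Y : Over B} (Φ : ∀ a, (pnt a ⟶ Y) → Gerb.AutO (x.obj a))
    (hΦ : ∀ {a' a : (AlgSt.ofSp B).obj} (f : a' ⟶ a) (q : pnt a ⟶ Y),
      (Φ a' (pntMap f ≫ q)).hom.1 ≫ x.map f = x.map f ≫ (Φ a q).hom.1) (a : (AlgSt.ofSp B).obj) (q : pnt a ⟶ Y) :
    d.val (d.ofVal Φ hΦ) a q = Φ a q :=
  (d.exists_mk Φ hΦ).choose_spec a q

theorem aut_mul_natural {a' a : (AlgSt.ofSp B).obj} (f : a' ⟶ a) {α β : Gerb.AutO (x.obj a)}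
    {α' β' : Gerb.AutO (x.obj a')} (hα : α'.hom.1 ≫ x.map f = x.map f ≫ α.hom.1)
    (hβ : β'.hom.1 ≫ x.map f = x.map f ≫ β.hom.1) : (α' * β').hom.1 ≫ x.map f = x.map f ≫ (α * β).hom.1 := by
  show (β'.hom.1 ≫ α'.hom.1) ≫ x.map f = x.map f ≫ β.hom.1 ≫ α.hom.1
  rw [Category.assoc, hα, reassoc_of% hβ]

theorem aut_inv_natural {a' a : (AlgSt.ofSp B).obj} (f : a' ⟶ a) {α : Gerb.AutO (x.obj a)}
    {α' : Gerb.AutO (x.obj a')} (hα : α'.hom.1 ≫ x.map f = x.map f ≫ α.hom.1) :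
    (α'⁻¹).hom.1 ≫ x.map f = x.map f ≫ (α⁻¹).hom.1 := by
  show α'.inv.1 ≫ x.map f = x.map f ≫ α.inv.1
  have h1 : α'.inv.1 ≫ α'.hom.1 = 𝟙 _ := congrArg Subtype.val α'.inv_hom_id
  have h2 : α.hom.1 ≫ α.inv.1 = 𝟙 _ := congrArg Subtype.val α.hom_inv_id
  calc α'.inv.1 ≫ x.map f = α'.inv.1 ≫ x.map f ≫ α.hom.1 ≫ α.inv.1 := by rw [h2]; simp
    _ = α'.inv.1 ≫ α'.hom.1 ≫ x.map f ≫ α.inv.1 := by rw [← reassoc_of% hα]
    _ = x.map f ≫ α.inv.1 := by rw [reassoc_of% h1]

/-- The group of morphisms into the sheaf. -/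
@[instance_reducible]
noncomputable def homGroup (Y : Over B) : Group (Y ⟶ G) :=
  letI : Mul (Y ⟶ G) := ⟨fun s t => d.ofVal (fun a q => d.val s a q * d.val t a q)
    fun f q => aut_mul_natural f (d.val_natural s f q) (d.val_natural t f q)⟩
  letI : One (Y ⟶ G) := ⟨d.ofVal (fun _ _ => 1) fun f q => (Category.id_comp _).trans (Category.comp_id _).symm⟩
  letI : Inv (Y ⟶ G) := ⟨fun s => d.ofVal (fun a q => (d.val s a q)⁻¹) fun f q => aut_inv_natural f (d.val_natural s f q)⟩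
  have hm : ∀ (s t : Y ⟶ G) a q, d.val (s * t) a q = d.val s a q * d.val t a q := fun s t a q => d.val_ofVal _ _ a q
  have h1 : ∀ a q, d.val (1 : Y ⟶ G) a q = 1 := fun a q => d.val_ofVal _ _ a q
  have hi : ∀ (s : Y ⟶ G) a q, d.val s⁻¹ a q = (d.val s a q)⁻¹ := fun s a q => d.val_ofVal _ _ a q
  Group.ofLeftAxioms (fun s t r => d.val_ext fun a q => by rw [hm, hm, hm, hm, _root_.mul_assoc])
    (fun s => d.val_ext fun a q => by rw [hm, h1, _root_.one_mul])
    (fun s => d.val_ext fun a q => by rw [hm, h1, hi, inv_mul_cancel])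

theorem val_homGroup_mul {Y : Over B} (s t : Y ⟶ G) (a : (AlgSt.ofSp B).obj) (q : pnt a ⟶ Y) :
    d.val (letI := d.homGroup Y; s * t) a q = d.val s a q * d.val t a q :=
  d.val_ofVal _ (fun f q => aut_mul_natural f (d.val_natural s f q) (d.val_natural t f q)) a q

/-- The presheaf of groups of morphisms into the sheaf. -/
noncomputable def homPsh : (Over B)ᵒᵖ ⥤ GrpCat.{u + 1} where
  obj Y := @GrpCat.of (Y.unop ⟶ G) (d.homGroup Y.unop)
  map {Y Y'} g :=
    letI := d.homGroup Y.unop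
    letI := d.homGroup Y'.unop
    GrpCat.ofHom (MonoidHom.mk' (fun s => g.unop ≫ s) fun s t => d.val_ext fun a q => by
      rw [d.val_comp, d.val_homGroup_mul, d.val_homGroup_mul, d.val_comp, d.val_comp])
  map_id Y := by
    letI := d.homGroup Y.unop
    exact GrpCat.hom_ext (MonoidHom.ext fun s => Category.id_comp s)
  map_comp {Y Y' Y''} f g := by
    letI := d.homGroup Y.unop
    letI := d.homGroup Y''.unop
    exact GrpCat.hom_ext (MonoidHom.ext fun s => Category.assoc g.unop f.unop s)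

/-- The sheaf represents the presheaf of groups. -/
noncomputable def rep : (d.homPsh ⋙ CategoryTheory.forget GrpCat.{u + 1}).RepresentableBy G where
  homEquiv := Equiv.refl _
  homEquiv_comp _ _ := rfl

/-- The group object of automorphisms. -/
@[instance_reducible]
noncomputable def grpObj : GrpObj G := GrpObj.ofRepresentableBy G d.homPsh d.rep

theorem val_hom_mul {Y : Over B} (s t : Y ⟶ G) (a : (AlgSt.ofSp B).obj) (q : pnt a ⟶ Y) :
    d.val (letI := d.grpObj; s * t) a q = d.val s a q * d.val t a q := by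
  letI := d.grpObj
  have h : μ[G] = @HMul.hMul _ _ _ (@instHMul _ (d.homGroup (G ⊗ G)).toMul) (fst G G) (snd G G) := rfl
  rw [Hom.mul_def, h, d.val_comp, d.val_homGroup_mul, ← d.val_comp, ← d.val_comp, lift_fst, lift_snd]

theorem pt_mul (a : (AlgSt.ofSp B).obj) (α β : Gerb.AutO (x.obj a)) :
    d.pt a (α * β) = letI := d.grpObj; d.pt a α * d.pt a β := by
  have h := d.val_hom_mul (d.pt a α) (d.pt a β) a (𝟙 _)
  simp only [val, Category.id_comp, Equiv.symm_apply_apply] at h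
  rw [← h, Equiv.apply_symm_apply]

end AutPts

/-- A group over the base representing the automorphisms of the values of a functor. -/
structure AutGrp (x : AlgSt.ofSp B ⥤ᵇ 𝒳) (G : Over B) [GrpObj G] where
  /-- the point of an automorphism -/
  pt : ∀ a : (AlgSt.ofSp B).obj, Gerb.AutO (x.obj a) ≃* (pnt a ⟶ G)
  res : ∀ {a' a : (AlgSt.ofSp B).obj} (f : a' ⟶ a) (α : Gerb.AutO (x.obj a)) (α' : Gerb.AutO (x.obj a')),
    α'.hom.1 ≫ x.map f = x.map f ≫ α.hom.1 → pt a' α' = pntMap f ≫ pt a α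

theorem exists_autGrp (d : AutPts x G) : ∃ _ : GrpObj G, Nonempty (AutGrp x G) :=
  letI := d.grpObj
  ⟨d.grpObj, ⟨⟨fun a => { d.pt a with map_mul' := d.pt_mul a }, fun f α α' h => d.res f α α' h⟩⟩⟩

end Groth.Agent.QuotLib.SpAut
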