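import Groth.Prelude.Def_W4stkstmgerbesQuotBase
import Groth.Agent.QuotLib.SpAutGrp
import Groth.Agent.IsoNatLib.Span

/-!
# The chart of a classifying stack over a base sheaf given by a section with represented automorphisms

Trivial torsors under the automorphism group of a section map fully faithfully to the values of the section; a
stack which is a gerbe over a sheaf with a section is the classifying stack of that group over the sheaf.
-/

set_option autoImplicit false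
set_option backward.isDefEq.respectTransparency false
set_option backward.isDefEq.respectTransparency.types false

universe u

open CategoryTheory CategoryTheory.Functor CategoryTheory.Limits MonoidalCategory CartesianMonoidalCategory MonObj
open Opposite AlgebraicGeometry AlgSp Groth.Agent.AlgSpLib Groth.Agent.FibBase Groth.Agent.AlgStLib
open Groth.Agent.IsoNatLib Groth.Agent.QuotLib.SpAut

namespace Groth.Agent.QuotLib.SpBGChart

variable {S : Scheme.{u}} {B : Sp S} (G : Over B) [GrpObj G]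

local notation "K₀" => Scheme.fppfPrecoverage

/-- The trivial torsor of a point. -/
noncomputable abbrev Q (a : (AlgSt.ofSp B).obj) : AlgSt.SpQuotObj K₀ G (AlgSt.trivGAction G) :=
  SpQuot.Q (X := 𝟙_ (Over B)) (aX := AlgSt.trivGAction G) a

/-- The category of trivial torsors. -/
noncomputable abbrev chart : BasedCategory.{u + 1, u + 1} (Over S) where
  obj := InducedCategory (AlgSt.SpQuotObj K₀ G (AlgSt.trivGAction G)) (Q G)
  p := inducedFunctor (Q G) ⋙ AlgSt.SpQuotObj.forget K₀ G (AlgSt.trivGAction G)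

/-- The chart of the classifying stack. -/
noncomputable def chartI : chart G ⥤ᵇ AlgSt.SpBG K₀ G where
  toFunctor := inducedFunctor (Q G)
  w := rfl

theorem hasLifts : HasLifts (chart G) := fun d {V} g => by
  obtain ⟨a, rfl⟩ : ∃ b : (AlgSt.ofSp B).obj, b = d := ⟨d, rfl⟩
  let a' : (AlgSt.ofSp B).obj := ⟨V, B.obj.map g.op a.sec⟩
  let k : a' ⟶ a := ⟨g, rfl⟩
  exact ⟨a', InducedCategory.homMk ((AlgSt.spQuotMap K₀ G (AlgSt.trivGAction G)).map k),
    CategoryTheory.IsHomLift.of_fac' _ g _ rfl rfl ((Category.id_comp _).trans (Category.comp_id _)).symm⟩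

theorem covers_chartI : Covers (J S) (chartI G) := fun A => by
  obtain ⟨R, hR, hR'⟩ := A.loc
  let P : Presieve A.base := fun V f => ∃ (T' : Scheme.{u}) (f' : T' ⟶ A.base.left) (e : V = Over.mk (f' ≫ A.base.hom)),
    R f' ∧ f = eqToHom e ≫ Over.homMk f' rfl
  refine ⟨Sieve.generate P, ?_, fun V f hf => ?_⟩
  · show Sieve.generate P ∈ QuotSh.J K₀ S A.base
    rw [GrothendieckTopology.mem_over_iff]
    refine GrothendieckTopology.superset_covering _ ?_ (Precoverage.generate_mem_toGrothendieck hR)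
    rintro Z _ ⟨Y, a, f', hf', rfl⟩
    rw [Sieve.overEquiv_iff]
    exact ⟨Over.mk (f' ≫ A.base.hom), Over.homMk a (by simp), Over.homMk f' rfl,
      ⟨Y, f', rfl, hf', by simp⟩, by ext; simp⟩
  · obtain ⟨W, k, _, ⟨T', f', rfl, hf', rfl⟩, rfl⟩ := hf
    obtain ⟨s, hs⟩ := hR' f' hf'
    let fm : Over.mk (f' ≫ A.base.hom) ⟶ A.base := Over.homMk f' rfl
    let a : (AlgSt.ofSp B).obj := ⟨V, (J S).uliftYonedaEquiv ((yon S).map (k ≫ fm) ≫ A.b)⟩
    let σ : pnt a ⟶ A.P := Over.homMk ((yon S).map k ≫ s) (by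
      refine Eq.trans ?_ ((pnt_hom a).trans (Equiv.symm_apply_apply _ _)).symm
      rw [← Over.w A.π, Category.assoc, reassoc_of% hs, Functor.map_comp, Category.assoc]
      rfl)
    have hσ : σ.left ≫ A.π.left = (yon S).map (k ≫ fm) := by
      show ((yon S).map k ≫ s) ≫ A.π.left = _
      rw [Category.assoc, hs, Functor.map_comp]
    refine ⟨a, SpQuot.homOfSec (X := 𝟙_ (Over B)) (a := a) (A := A) (k ≫ fm) σ hσ (toUnit_unique _ _), ?_⟩
    rw [eqToHom_refl, Category.id_comp]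
    exact IsHomLift.map (AlgSt.SpBG K₀ G).p
      (SpQuot.homOfSec (X := 𝟙_ (Over B)) (a := a) (A := A) (k ≫ fm) σ hσ (toUnit_unique _ _))

variable {G}

/-- The section of a morphism of trivial torsors. -/
noncomputable def sec' {a a' : (AlgSt.ofSp B).obj} (m : Q G a ⟶ Q G a') : pnt a ⟶ G ⊗ pnt a' :=
  SpQuot.secOfHom (X := 𝟙_ (Over B)) m

/-- The unit coordinate of a morphism of trivial torsors. -/
noncomputable def coord {a a' : (AlgSt.ofSp B).obj} (m : Q G a ⟶ Q G a') : pnt a ⟶ G := sec' m ≫ fst G (pnt a')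

/-- The morphism of points of a morphism of trivial torsors. -/
noncomputable def fhom {a a' : (AlgSt.ofSp B).obj} (m : Q G a ⟶ Q G a') : a ⟶ a' where
  hom := m.base
  map_sec := by
    have h : (yon S).map m.base ≫ (pnt a').hom = (pnt a).hom := m.wb
    rw [pnt_hom, pnt_hom] at h
    have h2 := congrArg (J S).uliftYonedaEquiv h
    rw [← uliftYonedaEquiv_precomp] at h2
    have key : ∀ (c : (AlgSt.ofSp B).obj),
        (J S).uliftYonedaEquiv ((J S).uliftYonedaEquiv.symm c.sec : (yon S).obj c.base ⟶ B) = c.sec :=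
      fun c => Equiv.apply_symm_apply _ _
    exact ((congrArg (B.obj.map m.base.op) (key a')).symm.trans h2).trans (key a)

theorem sec'_eq {a a' : (AlgSt.ofSp B).obj} (m : Q G a ⟶ Q G a') : sec' m = lift (coord m) (pntMap (fhom m)) := by
  apply CartesianMonoidalCategory.hom_ext
  · rw [lift_fst]; rfl
  · rw [lift_snd]
    exact (SpQuot.secOfHom_π (X := 𝟙_ (Over B)) m).trans (Over.OverMorphism.ext rfl)

theorem coord_id (a : (AlgSt.ofSp B).obj) : coord (𝟙 (Q G a)) = 1 := by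
  show (SpQuot.unitSec (G := G) (pnt a) ≫ 𝟙 _) ≫ fst G (pnt a) = 1
  rw [Category.comp_id, lift_fst, Hom.one_def]

theorem coord_comp {a a' a'' : (AlgSt.ofSp B).obj} (m : Q G a ⟶ Q G a') (m' : Q G a' ⟶ Q G a'') :
    coord (m ≫ m') = coord m * (pntMap (fhom m) ≫ coord m') := by
  have htop : m'.top = (G ◁ sec' m') ≫ (AlgSt.spLeftMul G (pnt a'')).act := SpQuot.hom_top (X := 𝟙_ (Over B)) m'
  have h : coord (m ≫ m') = (sec' m ≫ (G ◁ sec' m') ≫ (AlgSt.spLeftMul G (pnt a'')).act) ≫ fst G (pnt a'') := by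
    rw [← htop]
    show (SpQuot.unitSec (G := G) (pnt a) ≫ m.top ≫ m'.top) ≫ fst G (pnt a'') = _
    exact congrArg (· ≫ fst G (pnt a'')) (Category.assoc _ _ _).symm
  rw [h, sec'_eq m, sec'_eq m', lift_whiskerLeft_assoc, AlgSt.spLeftMul, Category.assoc, lift_fst, comp_mul,
    lift_fst, lift_snd_assoc, Category.assoc, lift_fst]

theorem hom_ext_coord {a a' : (AlgSt.ofSp B).obj} {m m' : Q G a ⟶ Q G a'} (hb : m.base = m'.base)
    (hc : coord m = coord m') : m = m' := by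
  refine SpQuot.hom_ext_sec (X := 𝟙_ (Over B)) hb ?_
  show sec' m = sec' m'
  rw [sec'_eq, sec'_eq, hc, show pntMap (fhom m) = pntMap (fhom m') from Over.OverMorphism.ext (congrArg (fun t => (yon S).map t) hb)]

theorem exists_hom {a a' : (AlgSt.ofSp B).obj} (g : pnt a ⟶ G) (f : a ⟶ a') :
    ∃ m : Q G a ⟶ Q G a', m.base = f.hom ∧ coord m = g := by
  have hπ : (lift g (pntMap f)).left ≫ (Q G a').π.left = (yon S).map f.hom :=
    congrArg CommaMorphism.left (lift_snd g (pntMap f))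
  refine ⟨SpQuot.homOfSec (X := 𝟙_ (Over B)) (a := a) f.hom (lift g (pntMap f)) hπ (toUnit_unique _ _), rfl, ?_⟩
  exact (congrArg (· ≫ fst G (pnt a')) (SpQuot.secOfHom_homOfSec _ _ _ _)).trans (lift_fst _ _)

variable {𝒳 : AlgSt.Cat S} [hX : FibCat.IsFibGrpd 𝒳.p] {x : AlgSt.ofSp B ⥤ᵇ 𝒳} (r : AutGrp x G)

/-- The automorphism of a point. -/
noncomputable def aut {a : (AlgSt.ofSp B).obj} (g : pnt a ⟶ G) : Gerb.AutO (x.obj a) := (r.pt a).symm g

theorem aut_mul {a : (AlgSt.ofSp B).obj} (g g' : pnt a ⟶ G) :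
    (aut r (g * g')).hom.1 = (aut r g').hom.1 ≫ (aut r g).hom.1 := by
  rw [aut, map_mul]; rfl

theorem aut_one (a : (AlgSt.ofSp B).obj) : (aut r (1 : pnt a ⟶ G)).hom.1 = 𝟙 _ := by
  rw [aut, map_one]; rfl

theorem aut_natural {a' a : (AlgSt.ofSp B).obj} (f : a' ⟶ a) (g : pnt a ⟶ G) :
    (aut r (pntMap f ≫ g)).hom.1 ≫ x.map f = x.map f ≫ (aut r g).hom.1 := by
  obtain ⟨α', hα'⟩ := exists_res f (aut r g)
  have h := r.res f _ _ hα'
  rw [aut, MulEquiv.apply_symm_apply] at h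
  rw [aut, ← h, MulEquiv.symm_apply_apply]
  exact hα'

/-- The action of a morphism of trivial torsors on values. -/
noncomputable def mapHom {a a' : (AlgSt.ofSp B).obj} (m : Q G a ⟶ Q G a') : x.obj a ⟶ x.obj a' :=
  (aut r (coord m)⁻¹).hom.1 ≫ x.map (fhom m)

/-- The chart of the stack given by the section. -/
noncomputable def chartJ : chart G ⥤ᵇ 𝒳 where
  toFunctor :=
    { obj := fun a => x.obj a
      map := fun m => mapHom r m.hom
      map_id := fun a => by
        show (aut r (coord (𝟙 (Q G a)))⁻¹).hom.1 ≫ x.map (fhom (𝟙 (Q G a))) = _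
        rw [coord_id, inv_one, aut_one, show fhom (𝟙 (Q G a)) = 𝟙 _ from Stk.EltObj.hom_ext rfl, x.toFunctor.map_id,
          Category.id_comp]
      map_comp := fun {a a' a''} m m' => by
        show (aut r (coord (m.hom ≫ m'.hom))⁻¹).hom.1 ≫ x.map (fhom (m.hom ≫ m'.hom)) = _
        rw [coord_comp, _root_.mul_inv_rev, aut_mul,
          show fhom (m.hom ≫ m'.hom) = fhom m.hom ≫ fhom m'.hom from Stk.EltObj.hom_ext rfl, x.toFunctor.map_comp,
          ← GrpObj.comp_inv]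
        simp only [mapHom, Category.assoc]
        rw [reassoc_of% aut_natural r (fhom m.hom) (coord m'.hom)⁻¹] }
  w := CategoryTheory.Functor.ext (fun a => x.w_obj a) fun a a' m => by
    show 𝒳.p.map ((aut r (coord m.hom)⁻¹).hom.1 ≫ x.map (fhom m.hom)) = _
    rw [Functor.map_comp, Groth.Agent.StkLib.w_map, map_eq_of_isHomLift_id (aut r _).hom.2]
    simp only [eqToHom_trans_assoc]
    rfl

theorem chartJ_faithful : (chartJ r).toFunctor.Faithful := by
  refine ⟨fun {a a'} m m' h => InducedCategory.hom_ext ?_⟩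
  change mapHom r m.hom = mapHom r m'.hom at h
  have hb : m.hom.base = m'.hom.base := by
    have hm := fun m : a ⟶ a' => Functor.congr_hom (chartJ r).w m
    have h1 : 𝒳.p.map (mapHom r m.hom) = _ := hm m
    have h2 : 𝒳.p.map (mapHom r m'.hom) = _ := hm m'
    have hp := congrArg 𝒳.p.map h
    rw [h1, h2, cancel_epi, cancel_mono] at hp
    exact hp
  refine hom_ext_coord hb (inv_injective ((r.pt _).symm.injective (Aut.ext (Functor.Fiber.hom_ext ?_))))
  show (aut r (coord m.hom)⁻¹).hom.1 = (aut r (coord m'.hom)⁻¹).hom.1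
  have hf : fhom m.hom = fhom m'.hom := Stk.EltObj.hom_ext hb
  simp only [mapHom, hf] at h
  have hl : ∀ g, 𝒳.p.IsHomLift (𝟙 (𝒳.p.obj (x.obj a))) (aut r g).hom.1 := fun g => (aut r g).hom.2
  have := hX.isStronglyCartesian (x.map (fhom m'.hom))
  exact IsStronglyCartesian.ext 𝒳.p (𝒳.p.map (x.map (fhom m'.hom))) (x.map (fhom m'.hom))
    (𝟙 (𝒳.p.obj (x.obj a))) h

variable {π : 𝒳 ⥤ᵇ AlgSt.ofSp B} (e : BasedFunctor.comp x π ≅ BasedFunctor.id (AlgSt.ofSp B))

include e in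
theorem chartJ_full : (chartJ r).toFunctor.Full := by
  refine ⟨fun {a a'} n => ?_⟩
  obtain ⟨a, rfl⟩ : ∃ b : (AlgSt.ofSp B).obj, b = a := ⟨a, rfl⟩
  obtain ⟨a', rfl⟩ : ∃ b : (AlgSt.ofSp B).obj, b = a' := ⟨a', rfl⟩
  change x.obj a ⟶ x.obj a' at n
  let k : a ⟶ a' := (isoApp e a).inv ≫ π.map n ≫ (isoApp e a').hom
  let f : a.base ⟶ a'.base := eqToHom (x.w_obj a).symm ≫ 𝒳.p.map n ≫ eqToHom (x.w_obj a')
  have h₁ : 𝒳.p.IsHomLift f n := IsHomLift.of_fac' _ f n (x.w_obj _) (x.w_obj _) (by simp [f])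
  have hk₁ : (AlgSt.ofSp B).p.IsHomLift (𝟙 a.base) (isoApp e a).inv := isoApp_inv_lift e rfl
  have hk₂ : (AlgSt.ofSp B).p.IsHomLift (𝟙 a'.base) (isoApp e a').hom := isoApp_lift e rfl
  have hk₃ : (AlgSt.ofSp B).p.IsHomLift f (π.map n) := π.preserves_isHomLift f n
  have hk₄ : (AlgSt.ofSp B).p.IsHomLift f (π.map n ≫ (isoApp e a').hom) :=
    IsHomLift.comp_lift_id_right' (AlgSt.ofSp B).p f (π.map n) a'.base (isoApp e a').hom
  have hk : (AlgSt.ofSp B).p.IsHomLift f k :=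
    IsHomLift.comp_lift_id_left' (AlgSt.ofSp B).p a.base (isoApp e a).inv f _
  have h₂ : 𝒳.p.IsHomLift f (x.map k) := x.preserves_isHomLift f k
  obtain ⟨i, hi, hii⟩ := exists_iso_of_lifts (p := 𝒳.p) f (x.map k) n
  let σ : Gerb.AutO (x.obj a) := fiberIsoMk (a := Gerb.fib (x.obj a)) (b := Gerb.fib (x.obj a)) i
    (isHomLift_id_congr (x.w_obj a).symm hi)
  obtain ⟨m, hmb, hmc⟩ := exists_hom (G := G) (r.pt a σ)⁻¹ k
  refine ⟨InducedCategory.homMk m, ?_⟩
  show mapHom r m = n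
  rw [mapHom, hmc, _root_.inv_inv, aut, MulEquiv.symm_apply_apply,
    show fhom m = k from Stk.EltObj.hom_ext hmb]
  exact hii

include e in
/-- The section of the projection of a value. -/
theorem secAt_value (a : (AlgSt.ofSp B).obj) :
    secAt π (x.obj a) = B.obj.map (eqToHom (x.w_obj a)).op a.sec := by
  have hl : (AlgSt.ofSp B).p.IsHomLift (𝟙 a.base) (isoApp e a).hom := isoApp_lift e rfl
  have hm := (isoApp e a).hom.map_sec
  refine (congrArg (B.obj.map (eqToHom (π.w_obj (x.obj a)).symm).op) hm.symm).trans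
    ((res_res B.obj _ _ _).trans (res_congr B.obj ?_ _))
  have h1 : (AlgSt.ofSp B).p.map (isoApp e a).hom = _ := IsHomLift.fac' (AlgSt.ofSp B).p (𝟙 a.base) (isoApp e a).hom
  refine (congrArg (eqToHom _ ≫ ·) h1).trans ?_
  simp

include e in
theorem covers_chartJ (hπ : Gerb.LocSurjHom (J S) π) : Covers (J S) (chartJ r) := fun A => by
  let a : (AlgSt.ofSp B).obj := ⟨𝒳.p.obj A, secAt π A⟩
  let m₁ : π.obj A ⟶ a := ⟨eqToHom (π.w_obj A), (res_res B.obj _ _ _).trans
    ((res_congr B.obj (eqToHom_trans _ _) _).trans (res_id B.obj _ (eqToHom_refl _ _) _))⟩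
  have hm₁ : (AlgSt.ofSp B).p.IsHomLift (𝟙 (𝒳.p.obj A)) m₁ :=
    IsHomLift.of_fac' _ _ _ (π.w_obj A) rfl (by
      show eqToHom (π.w_obj A) = _
      simp)
  have hm₂ : (AlgSt.ofSp B).p.IsHomLift (𝟙 (𝒳.p.obj A)) (isoApp e a).inv := isoApp_inv_lift e rfl
  obtain ⟨R, hR, hR'⟩ := hπ A (x.obj a) (m₁ ≫ (isoApp e a).inv)
    (IsHomLift.comp_lift_id_right' (AlgSt.ofSp B).p (𝟙 (𝒳.p.obj A)) m₁ (𝒳.p.obj A) (isoApp e a).inv)
  refine ⟨R, hR, fun V f hf => ?_⟩
  obtain ⟨x₀, φ, ψ, hφ, hψ, -⟩ := hR' f hf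
  let a' : (AlgSt.ofSp B).obj := ⟨V, B.obj.map f.op a.sec⟩
  let k : a' ⟶ a := ⟨f, rfl⟩
  have hk : (AlgSt.ofSp B).p.IsHomLift f k := IsHomLift.of_fac' _ f k rfl rfl
    ((Category.id_comp _).trans (Category.comp_id _)).symm
  have h₂ : 𝒳.p.IsHomLift f (x.map k) := x.preserves_isHomLift f k
  obtain ⟨i, hi, -⟩ := exists_iso_of_lifts (p := 𝒳.p) f ψ (x.map k)
  exact ⟨a', i.hom ≫ φ, IsHomLift.comp_lift_id_left' 𝒳.p V i.hom f φ⟩

theorem secAt_Q (a : (AlgSt.ofSp B).obj) :
    secAt (W4stkstmgerbes.spQuotToBase K₀ G (AlgSt.trivGAction G)) (Q G a) = a.sec := by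
  refine (res_id B.obj _ (eqToHom_refl _ _) _).trans ?_
  show (pnt a).hom.hom.app (op a.base) ⟨𝟙 a.base⟩ = a.sec
  rw [pnt_hom]
  exact (app_eq_uliftYonedaEquiv _ _).trans ((res_id B.obj _ rfl _).trans (Equiv.apply_symm_apply _ _))

include r e in
/-- A gerbe over a sheaf with a section is the classifying stack of the automorphisms of the section. -/
theorem exists_equivOver (hst : Stk.IsStack (J S) 𝒳) (hπ : Gerb.LocSurjHom (J S) π) :
    ∃ e' : AlgSt.SpBG K₀ G ⥤ᵇ 𝒳, FibCat.IsEquivOver e' ∧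
      Nonempty (BasedFunctor.comp e' π ≅ W4stkstmgerbes.spQuotToBase K₀ G (AlgSt.trivGAction G)) := by
  have := chartJ_full r e
  have := chartJ_faithful r
  have : (chartI G).toFunctor.Full := InducedCategory.full _
  have : (chartI G).toFunctor.Faithful := InducedCategory.faithful _
  obtain ⟨e', he', hcompat⟩ := exists_equiv_of_span_compat (J := J S) (i := chartI G) (j := chartJ r)
    SpQuot.isStack hst (hasLifts G) (covers_chartI G) (covers_chartJ r e hπ)
  refine ⟨e', he', ⟨pshIso _ _ fun A => ?_⟩⟩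
  obtain ⟨R, hR, hR'⟩ := covers_chartI G A
  refine (((isSheaf_iff_isSheaf_of_type _ _).1 B.property) R hR).isSeparatedFor.ext fun V f hf => ?_
  obtain ⟨c, φ, hφ⟩ := hR' f hf
  obtain ⟨c, rfl⟩ : ∃ b : (AlgSt.ofSp B).obj, b = c := ⟨c, rfl⟩
  obtain ⟨ψ, hψ⟩ := hcompat A c φ
  have hV : c.base = V := IsHomLift.domain_eq (AlgSt.SpBG K₀ G).p f φ
  subst hV
  have hf' : f = φ.base :=
    ((IsHomLift.fac' (AlgSt.SpBG K₀ G).p f φ).trans ((Category.id_comp _).trans (Category.comp_id _))).symm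
  subst hf'
  refine Eq.trans ?_ ((secAt_map (W4stkstmgerbes.spQuotToBase K₀ G (AlgSt.trivGAction G)) φ).trans (secAt_Q c)).symm
  have h1 : B.obj.map (𝒳.p.map ψ).op (secAt π (e'.obj A)) = B.obj.map (eqToHom (x.w_obj c)).op c.sec :=
    (secAt_map π ψ).trans (secAt_value e c)
  have h2 : secAt (BasedFunctor.comp e' π) A = B.obj.map (eqToHom (e'.w_obj A).symm).op (secAt π (e'.obj A)) :=
    ((res_res B.obj _ _ _).trans (res_congr B.obj (eqToHom_trans _ _) _)).symm
  rw [h2]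
  refine (res_res B.obj _ _ _).trans ?_
  have h3 : φ.base ≫ eqToHom (e'.w_obj A).symm = eqToHom (x.w_obj c).symm ≫ 𝒳.p.map ψ := by
    rw [hψ]
    show φ.base ≫ _ = eqToHom _ ≫ eqToHom _ ≫ φ.base ≫ _
    simp
  refine (res_congr B.obj h3 _).trans ((res_res B.obj _ _ _).symm.trans ?_)
  refine (congrArg _ h1).trans ?_
  exact (res_res B.obj _ _ _).trans (res_id B.obj _ (eqToHom_trans _ _) _)

end Groth.Agent.QuotLib.SpBGChart
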